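import Groth.Agent.H15Site.RlimTruncApps
import Groth.Agent.H16Derived.KInjRes.Countable
import Groth.Agent.H18Et.FreeSheaf
import Groth.Agent.H18Et.PropAB
import Groth.Agent.H15Site.HDUNeg
import Groth.Agent.S0171
import Groth.Prelude.Def_DCoh2

/-!
# Complexes supported at closed points are detected by global classes
-/

set_option autoImplicit false
set_option linter.style.haveILetI false
set_option linter.unusedSectionVars false
set_option backward.isDefEq.respectTransparency false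
set_option backward.isDefEq.respectTransparency.types false

universe u

open CategoryTheory CategoryTheory.Limits AlgebraicGeometry Opposite DerivedCategory DerivedCategory.TStructure
open CategoryTheory.Abelian

attribute [local instance] HasDerivedCategory.standard

namespace Groth.Agent.H15Site.EtClosedPts

open Groth.Agent.H18Et SiteGen RlimTrunc
open scoped Groth.Agent.H18Et

variable (X : Scheme.{u})

/-- A small model of the étale site. -/
abbrev Site : Type (u + 1) := AsSmall.{u + 1} X.Etale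

/-- The underlying object. -/
abbrev dn {X : Scheme.{u}} (V : Site X) : X.Etale := ULift.down V

/-- Its topology. -/
abbrev top : GrothendieckTopology (Site X) :=
  (AsSmall.equiv.{u, u + 1, u + 1} (C := X.Etale)).inverse.inducedTopology X.smallEtaleTopology

theorem mem_top {V : Site X} {S : Sieve V} :
    S ∈ top X V ↔ S.functorPushforward (AsSmall.down (C := X.Etale)) ∈ X.smallEtaleTopology (dn V) := by
  rw [Functor.mem_inducedTopology_iff_of_isCoverDense]
  rfl

/-- The free sheaves generate. -/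
noncomputable def gen : SiteGen.Gen (top X) (EtCoh.Ab X) where
  G := AsSmall.down ⋙ FreeSheaf.free X
  loc {F V} p _ := by
    have hl : Sheaf.IsLocallySurjective p :=
      (Sheaf.isLocallySurjective_iff_epi' AddCommGrpCat.{u + 1} p).2 inferInstance
    let b := FreeSheaf.homEquiv (dn V) _ (𝟙 ((FreeSheaf.free X).obj (dn V)))
    refine ⟨(Presheaf.imageSieve p.hom b).functorPullback AsSmall.down, ?_, fun Y g hg => ?_⟩
    · rw [mem_top]
      refine X.smallEtaleTopology.superset_covering ?_ (Presheaf.imageSieve_mem _ p.hom b)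
      intro W g hg
      exact ⟨⟨W⟩, ⟨g⟩, 𝟙 W, hg, (Category.id_comp g).symm⟩
    · obtain ⟨t, ht⟩ := hg
      refine ⟨(FreeSheaf.homEquiv (dn Y) F).symm t, (FreeSheaf.homEquiv (dn Y) _).injective ?_⟩
      rw [FreeSheaf.homEquiv_comp, Equiv.apply_symm_apply]
      refine ht.trans ?_
      show _ = FreeSheaf.homEquiv (dn Y) _ ((FreeSheaf.free X).map g.down)
      rw [← Category.comp_id ((FreeSheaf.free X).map g.down), FreeSheaf.homEquiv_map]
      rfl
  sep {V S} hS {F} φ h := by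
    rw [mem_top] at hS
    refine (FreeSheaf.homEquiv (dn V) F).injective (F.isSeparated (dn V)
      _ hS _ _ ?_)
    rintro W g ⟨Y, g', k, hg', rfl⟩
    rw [← FreeSheaf.homEquiv_map, ← FreeSheaf.homEquiv_map, Functor.map_comp, Category.assoc, Category.assoc,
      comp_zero]
    refine congrArg (FreeSheaf.homEquiv W F) ?_
    rw [show (FreeSheaf.free X).map (AsSmall.down.map g') ≫ φ = 0 from h g' hg']
  gen {F G} φ h := by
    refine Sheaf.hom_ext (NatTrans.ext (funext fun U => AddCommGrpCat.hom_ext (AddMonoidHom.ext fun s => ?_)))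
    obtain ⟨U⟩ := U
    have h1 := congrArg (FreeSheaf.homEquiv U G) (h ⟨U⟩ ((FreeSheaf.homEquiv U F).symm s))
    rw [FreeSheaf.homEquiv_comp, Equiv.apply_symm_apply] at h1
    have h0 := FreeSheaf.homEquiv_comp (W := U) (0 : (FreeSheaf.free X).obj U ⟶ F) (0 : F ⟶ G)
    rw [zero_comp] at h0
    exact h1.trans (h0.trans rfl)

variable {X}

/-- The condition on the cohomology sheaves. -/
def ClosedSupp (F : EtCoh.Ab X) : Prop := ∀ x ∈ EtPBC.supp F, IsClosed ({x} : Set X)

theorem closedSupp_pull [IsLocallyNoetherian X] (V : X.Etale) (F : EtCoh.Ab X) (hF : ClosedSupp F) :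
    ClosedSupp ((EtCoh.pull V.hom).obj F) := by
  rintro v ⟨Ω, _, _, ξ, hξ, hne⟩
  refine H05EGA4.EtCl.isClosed_singleton_of_hom (hF _ ⟨Ω, inferInstance, inferInstance, ξ ≫ V.hom, ?_, fun h => ?_⟩)
  · ext y
    simp only [Set.mem_range, Set.mem_singleton_iff, Scheme.Hom.comp_apply]
    constructor
    · rintro ⟨z, rfl⟩
      exact congrArg V.hom (Set.mem_singleton_iff.1 (hξ ▸ Set.mem_range_self z))
    · rintro rfl
      obtain ⟨z, hz⟩ : v ∈ Set.range ξ := by rw [hξ]; exact rfl
      exact ⟨z, congrArg V.hom hz⟩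
  · exact hne (h.of_iso ((H18Et.stalkPullIso V.hom ξ).app F))

variable {K : Type u} [Field K] [IsSepClosed K] (a : X ⟶ Spec (CommRingCat.of K)) [LocallyOfFiniteType a]
  [QuasiCompact a]

include a in
theorem van (V : X.Etale) [CompactSpace V.left] (F : EtCoh.Ab X) (hF : ClosedSupp F) (k : ℕ) (hk : 0 < k) :
    Van (gen X) k ⟨V⟩ F := by
  haveI : IsLocallyNoetherian X := LocallyOfFiniteType.isLocallyNoetherian a
  haveI : Etale V.hom := V.prop
  haveI := H18Et.pull_preservesFiniteLimits V.hom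
  haveI : QuasiCompact (V.hom ≫ a) := (quasiCompact_iff_compactSpace _).2 ‹_›
  let e : FreeSheaf.obj V.hom ≅ V := MorphismProperty.Over.isoMk (Iso.refl _) (by
    show 𝟙 _ ≫ V.hom = 𝟙 V.left ≫ V.hom
    rfl)
  have h : Subsingleton (Ext ((FreeSheaf.free X).obj V) F k) := by
    refine subsingleton_of_forall_eq 0 fun x => ?_
    have := (@Function.Injective.subsingleton _ _ _ (FreeSheaf.phi_bijective V.hom F k).1
      (S0171.result V.left (V.hom ≫ a) _ (closedSupp_pull V F hF) k hk)).elim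
      ((Ext.mk₀ ((FreeSheaf.free X).map e.hom)).comp x (zero_add k)) 0
    rw [← x.mk₀_id_comp, ← CategoryTheory.Functor.map_id, ← e.inv_hom_id, Functor.map_comp, ← Ext.mk₀_comp_mk₀,
      Ext.comp_assoc _ _ _ (zero_add 0) (zero_add k) (by omega), this, Ext.comp_zero]
  exact (Ext.homEquiv (X := (FreeSheaf.free X).obj V) (Y := F) (n := k)).subsingleton_congr.1 h

include a in
theorem exists_top_ne_zero (Q : DCoh.DEt X) (hQ : ∀ i, ClosedSupp (DCoh.HDEt Q i))
    (s : (DCoh.HDEt Q 0).obj.obj (op (EtCoh.top X))) (hs : s ≠ 0) :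
    ∃ y : (singleFunctor (EtCoh.Ab X) 0).obj ((FreeSheaf.free X).obj (EtCoh.top X)) ⟶ Q⟦(0 : ℤ)⟧, y ≠ 0 := by
  classical
  haveI : CompactSpace X := QuasiCompact.compactSpace_of_compactSpace a
  let A := EtCoh.Ab X
  haveI : HasProduct (CohCx.truncTower Q) :=
    H16Derived.KInjRes.Countable.hasProduct_of_isGE _ fun n =>
      ⟨-(n : ℤ), inferInstanceAs (t.IsGE ((t.truncGE (-(n : ℤ))).obj Q) (-(n : ℤ)))⟩
  have hR : CohCx.IsRlimVia (CohCx.truncTower Q) (CohCx.truncTowerMap Q) Q (CohCx.toTruncTower Q) := by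
    refine isRlimVia_truncTower (gen X) Q fun m U T hT => ?_
    let N₀ := (-m).toNat + 1
    let S : Sieve U :=
      { arrows := fun Y g => ∃ (Z : Site X) (p : Y ⟶ Z) (g' : Z ⟶ U),
          p ≫ g' = g ∧ T N₀ g' ∧ IsAffine (dn Z).left
        downward_closed := by
          rintro Y Y' g ⟨Z, p, g', rfl, h1, h2⟩ q
          exact ⟨Z, q ≫ p, g', Category.assoc _ _ _, h1, h2⟩ }
    refine ⟨S, ?_, fun Y g ⟨Z, p, g', h1, h2, h3⟩ => ⟨Z, p, g', N₀, h1, h2, ?_⟩⟩
    · rw [mem_top]
      refine H18Et.mem_topology_of_forall_point _ fun x => ?_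
      obtain ⟨W, g, w, hg, hw⟩ := H18Et.exists_of_mem_topology ((mem_top X).1 (hT N₀)) x
      obtain ⟨Y, g', k, hg', rfl⟩ := hg
      obtain ⟨O, hO, hxO, -⟩ := exists_isAffineOpen_mem_and_subset (x := w) (U := (⊤ : W.left.Opens)) trivial
      let Z := H05EGA4.EtCl.sub W O
      refine ⟨Z, H05EGA4.EtCl.subι W O ≫ k ≫ AsSmall.down.map g', ⟨w, hxO⟩,
        ⟨⟨Z⟩, ⟨H05EGA4.EtCl.subι W O ≫ k ≫ AsSmall.down.map g'⟩, 𝟙 Z, ?_, (Category.id_comp _).symm⟩, hw⟩
      exact ⟨⟨Z⟩, 𝟙 _, _, Category.id_comp _,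
        (T N₀).downward_closed hg' ⟨H05EGA4.EtCl.subι W O ≫ k⟩, hO⟩
    · intro i hi k hk
      haveI := h3
      exact van a (dn Z) _ (hQ _) k (by omega)
  have hg : GoodTr (gen X) (CohCx.truncTower Q) (CohCx.truncTowerMap Q) 0 0 ⟨EtCoh.top X⟩ := by
    refine goodTr_truncTower (gen X) Q 0 0 _ fun i hi k hk => ?_
    haveI : CompactSpace (EtCoh.top X).left := ‹CompactSpace X›
    exact van a (EtCoh.top X) _ (hQ _) k (by omega)
  let M := CohCx.truncTower Q 0
  haveI : M.IsGE 0 :=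
    haveI : t.IsGE M (-((0 : ℕ) : ℤ)) := inferInstanceAs (t.IsGE ((t.truncGE (-((0 : ℕ) : ℤ))).obj Q) (-((0 : ℕ) : ℤ)))
    t.isGE_of_ge M 0 (-((0 : ℕ) : ℤ)) (by omega)
  haveI : IsIso ((homologyFunctor A 0).map (CohCx.toTruncTower Q 0)) :=
    H16Derived.DTrunc.isIso_homology_truncGEπ Q (-((0 : ℕ) : ℤ)) 0 (by omega)
  -- the section as a class
  haveI : DerivedCategory.IsGE (M⟦(0 : ℤ)⟧) 0 := t.isGE_shift M 0 0 0 (add_zero 0)
  let G := (FreeSheaf.free X).obj (EtCoh.top X)
  let φ : G ⟶ (homologyFunctor A 0).obj M :=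
    (FreeSheaf.homEquiv _ _).symm (((homologyFunctor A 0).map (CohCx.toTruncTower Q 0)).hom.app (op (EtCoh.top X)) s)
  obtain ⟨x, hx⟩ := (HDUNeg.bijective_cls_of_isGE G (M⟦(0 : ℤ)⟧)).2 ((ιX G).inv ≫ φ ≫ (σ M 0).inv)
  obtain ⟨y, hy⟩ := detSurj_of_goodTr (gen X) (CohCx.toTruncTower Q) hR hg x
  refine ⟨y, fun h => hs ?_⟩
  have hy' : x = 0 := by rw [← hy, h]; exact zero_comp
  have hx0 : (ιX G).inv ≫ φ ≫ (σ M 0).inv = 0 := by
    rw [← hx, hy']
    exact Functor.map_zero _ _ _
  have hφ : φ = 0 := by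
    rw [← cancel_mono (σ M 0).inv, ← cancel_epi (ιX G).inv, hx0, zero_comp, comp_zero]
  have h1 := congrArg (FreeSheaf.homEquiv (EtCoh.top X) _) hφ
  simp only [φ, Equiv.apply_symm_apply] at h1
  refine (ConcreteCategory.bijective_of_isIso
    (((homologyFunctor A 0).map (CohCx.toTruncTower Q 0)).hom.app (op (EtCoh.top X)))).1 ?_
  rw [map_zero]
  refine h1.trans ?_
  have h0 := FreeSheaf.homEquiv_comp (W := EtCoh.top X) (0 : G ⟶ (homologyFunctor A 0).obj M)
    (0 : (homologyFunctor A 0).obj M ⟶ (homologyFunctor A 0).obj M)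
  rw [zero_comp] at h0
  exact h0.trans rfl

end Groth.Agent.H15Site.EtClosedPts
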